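import Cfsg.Agent.J3.Simple
import Cfsg.Agent.H55.OutGen
import Mathlib.FieldTheory.Finite.GaloisField

/-!
# The outer automorphism of `J₃` (helper55)

* `isoJ3` : `J3 F ω`, for a field `F` with four elements in any universe, is `IsoJ3`;
* `phi` : the semilinear automorphism `M ↦ (M^σ)` conjugated by the permutation `z ↦ z̄` of `𝔽₉` normalises `threeJ3 F ω`;
  it inverts the centre, so it is not inner (`exists_not_inner`).
-/

set_option autoImplicit false

namespace Cfsg.Agent.H55.JThree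

open Cfsg.Spor Cfsg.Agent.J3.Core Cfsg.Agent.J3.Elts Cfsg.Agent.J3.Nineteen Matrix Subgroup

universe u v

/-! ### transport along field isomorphisms -/

section transport

variable {F : Type u} [Field F] {F' : Type v} [Field F']

theorem map_gens (σ : F →+* F') (ω : F) {M : Matrix F9 F9 F} (hM : M ∈ j3Gens F ω) :
    M.map σ ∈ j3Gens F' (σ ω) := by
  rcases hM with (((⟨Z, rfl⟩ | ⟨Z, rfl⟩) | ⟨Z, rfl⟩) | ⟨Z, hZ, rfl⟩) | ⟨Z, hZ, rfl⟩
  · refine Or.inl (Or.inl (Or.inl (Or.inl ⟨Z, ?_⟩)))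
    ext w z
    simp only [j3A, Matrix.map_apply, Matrix.diagonal_apply, omegaPow]
    split_ifs <;> simp
  · refine Or.inl (Or.inl (Or.inl (Or.inr ⟨Z, ?_⟩)))
    ext w z
    simp only [j3E, Matrix.map_apply, Matrix.diagonal_apply, omegaPow]
    split_ifs <;> simp
  · refine Or.inl (Or.inl (Or.inr ⟨Z, ?_⟩))
    ext w z
    simp only [j3D, Matrix.map_apply, Matrix.of_apply, j3Lam]
    split_ifs <;> simp
  · refine Or.inl (Or.inr ⟨Z, hZ, ?_⟩)
    ext w z
    simp only [j3B, Matrix.map_apply, Matrix.of_apply]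
    split_ifs <;> simp
  · refine Or.inr ⟨Z, hZ, ?_⟩
    ext w z
    simp only [j3C, Matrix.map_apply, Matrix.of_apply]
    split_ifs <;> simp

theorem map_mem (σ : F →+* F') (ω : F) {g : GL F9 F} (hg : g ∈ threeJ3 F ω) :
    Matrix.GeneralLinearGroup.map σ g ∈ threeJ3 F' (σ ω) := by
  have h : threeJ3 F ω ≤ (threeJ3 F' (σ ω)).comap (Matrix.GeneralLinearGroup.map σ) := by
    unfold threeJ3
    rw [closure_le]
    intro x hx
    exact subset_closure (map_gens σ ω hx)
  exact h hg

/-- `threeJ3` and isomorphisms of the field -/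
def equivField (σ : F ≃+* F') (ω : F) : threeJ3 F ω ≃* threeJ3 F' (σ ω) where
  toFun g := ⟨Matrix.GeneralLinearGroup.map (σ : F →+* F') g, map_mem (σ : F →+* F') ω g.2⟩
  invFun g := ⟨Matrix.GeneralLinearGroup.map (σ.symm : F' →+* F) g, by
    have h := map_mem (σ.symm : F' →+* F) (σ ω) g.2
    have e : (σ.symm : F' →+* F) (σ ω) = ω := σ.symm_apply_apply ω
    rw [e] at h
    exact h⟩
  left_inv g := by
    apply Subtype.ext
    apply Units.ext
    ext i j
    exact σ.symm_apply_apply _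
  right_inv g := by
    apply Subtype.ext
    apply Units.ext
    ext i j
    exact σ.apply_symm_apply _
  map_mul' a b := by
    apply Subtype.ext
    exact map_mul _ _ _

end transport

/-- the group `J3 F ω` over any field with four elements satisfies `IsoJ3` -/
theorem isoJ3 {F : Type u} [Field F] [Fintype F] (hF : Fintype.card F = 4) {ω : F} (hω : ω ^ 2 + ω + 1 = 0) :
    IsoJ3 (J3 F ω) := by
  have : Fact (Nat.Prime 2) := ⟨Nat.prime_two⟩
  have : Finite (GaloisField 2 2) := inferInstance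
  let _ : Fintype (GaloisField 2 2) := Fintype.ofFinite _
  have hc : Fintype.card (GaloisField 2 2) = 4 := by
    rw [← Nat.card_eq_fintype_card, GaloisField.card 2 2 (by norm_num)]
    norm_num
  let σ : F ≃+* GaloisField 2 2 := FiniteField.ringEquivOfCardEq (by rw [hF, hc])
  refine ⟨GaloisField 2 2, inferInstance, inferInstance, σ ω, hc, ?_, ⟨?_⟩⟩
  · rw [← map_pow, ← map_add, ← map_one σ, ← map_add, hω, map_zero]
  · exact OutGen.centerQuotCongr (equivField σ ω)

/-! ### the semilinear automorphism -/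

section phi

variable {F : Type u} [Field F] {ω : F}

/-- the conjugation of `𝔽₉` -/
def cj (z : F9) : F9 := (z.1, -z.2)

theorem cj_cj (z : F9) : cj (cj z) = z := by simp [cj]

/-- the conjugation of `𝔽₉` as a permutation -/
def cjE : F9 ≃ F9 where
  toFun := cj
  invFun := cj
  left_inv := cj_cj
  right_inv := cj_cj

/-- the Frobenius map -/
def frob (H : Good ω) : F →+* F where
  toFun x := x ^ 2
  map_one' := by simp
  map_mul' x y := by ring
  map_zero' := by simp
  map_add' x y := by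
    have h := H.add_self (x * y)
    linear_combination h

theorem frob_frob [Fintype F] (hF : Fintype.card F = 4) (H : Good ω) (x : F) : frob H (frob H x) = x := by
  show (x ^ 2) ^ 2 = x
  have h := FiniteField.pow_card x
  rw [hF] at h
  rw [← pow_mul]
  exact h

/-- the semilinear map on matrices -/
def phiM (H : Good ω) : Matrix F9 F9 F →+* Matrix F9 F9 F :=
  ((Matrix.reindexRingEquiv F cjE : Matrix F9 F9 F ≃+* Matrix F9 F9 F) : Matrix F9 F9 F →+* Matrix F9 F9 F).comp
    (frob H).mapMatrix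

theorem phiM_apply (H : Good ω) (M : Matrix F9 F9 F) (w z : F9) : phiM H M w z = (M (cj w) (cj z)) ^ 2 := rfl

theorem phiM_phiM [Fintype F] (hF : Fintype.card F = 4) (H : Good ω) (M : Matrix F9 F9 F) :
    phiM H (phiM H M) = M := by
  ext w z
  rw [phiM_apply, phiM_apply, cj_cj, cj_cj]
  exact frob_frob hF H _

theorem omegaPow_sq (H : Good ω) (n : ZMod 3) : omegaPow F ω n ^ 2 = omegaPow F ω (-n) := by
  have h3 := H.cube
  fin_cases n
  · show (ω ^ 0) ^ 2 = ω ^ 0
    simp
  · show (ω ^ 1) ^ 2 = ω ^ 2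
    simp
  · show (ω ^ 2) ^ 2 = ω ^ 1
    calc (ω ^ 2) ^ 2 = ω ^ 3 * ω := by ring
      _ = ω ^ 1 := by rw [h3]; ring

theorem cj_injective : Function.Injective cj := fun a b h => by rw [← cj_cj a, h, cj_cj]

theorem phiM_A (H : Good ω) (Z : F9) : phiM H (j3A F ω Z) = j3A F ω (-cj Z) := by
  ext w z
  rw [phiM_apply]
  simp only [j3A, Matrix.diagonal_apply, cj_injective.eq_iff]
  split_ifs with h
  · rw [omegaPow_sq H]
    congr 1
    simp only [cj, Prod.fst_neg, Prod.snd_neg]
    ring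
  · exact zero_pow (by norm_num)

theorem omegaPow_mul_self (H : Good ω) (n : ZMod 3) : omegaPow F ω (-n) * omegaPow F ω n = 1 := by
  rw [← omegaPow_sq H]
  have h3 := H.cube
  unfold omegaPow
  calc (ω ^ n.val) ^ 2 * ω ^ n.val = (ω ^ 3) ^ n.val := by ring
    _ = 1 := by rw [h3, one_pow]

theorem phiM_E (H : Good ω) (Z : F9) : phiM H (j3E F ω Z) * j3E F ω (cj Z) = 1 := by
  have h1 : phiM H (j3E F ω Z) =
      Matrix.diagonal fun z => omegaPow F ω (-(((cj Z).1 - z.1) ^ 2 + ((cj Z).2 - z.2) ^ 2)) := by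
    ext w z
    rw [phiM_apply]
    simp only [j3E, Matrix.diagonal_apply, cj_injective.eq_iff]
    split_ifs with h
    · rw [omegaPow_sq H]
      congr 1
      simp only [cj]
      ring
    · exact zero_pow (by norm_num)
  rw [h1]
  unfold j3E
  rw [Matrix.diagonal_mul_diagonal, ← Matrix.diagonal_one]
  congr 1
  funext z
  exact omegaPow_mul_self H _

theorem div_cj : ∀ Z z : F9, F9.div Z (cj z) = cj (F9.div (cj Z) z) := by decide

theorem cj_a : ∀ x : F9, cj x = F9.I - F9.one ↔ x = -F9.I - F9.one := by decide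
theorem cj_b : ∀ x : F9, cj x = -F9.I - F9.one ↔ x = F9.I - F9.one := by decide
theorem ab_ne : F9.I - F9.one ≠ -F9.I - F9.one := by decide
theorem cj_eq_zero : ∀ x : F9, cj x = 0 ↔ x = 0 := by decide
theorem cj_eq_add (w z Z : F9) : cj w = cj z + Z ↔ w = z + cj Z := by
  constructor
  · intro h
    have h1 : w.1 = z.1 + Z.1 := congrArg Prod.fst h
    have h2 : -w.2 = -z.2 + Z.2 := congrArg Prod.snd h
    refine Prod.ext h1 ?_
    show w.2 = z.2 + -Z.2
    linear_combination -h2
  · rintro rfl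
    refine Prod.ext rfl ?_
    show -(z.2 + -Z.2) = -z.2 + Z.2
    ring

theorem phiM_D (H : Good ω) (Z : F9) : phiM H (j3D F ω Z) = j3D F ω (cj Z) := by
  ext w z
  rw [phiM_apply]
  simp only [j3D, Matrix.of_apply, cj_eq_add]
  by_cases hw : w = z + cj Z
  · rw [if_pos hw, if_pos hw]
    unfold j3Lam
    simp only [div_cj, cj_eq_zero, cj_a, cj_b]
    by_cases hz : z = 0
    · rw [if_pos hz, if_pos hz, one_pow]
    rw [if_neg hz, if_neg hz]
    have h4 : (ω ^ 2) ^ 2 = ω := by
      calc (ω ^ 2) ^ 2 = ω ^ 3 * ω := by ring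
        _ = ω := by rw [H.cube, one_mul]
    by_cases h1 : F9.div (cj Z) z = -F9.I - F9.one
    · rw [if_pos h1, if_neg (by rw [h1]; exact ab_ne.symm), if_pos h1]
    · rw [if_neg h1, if_neg h1]
      by_cases h2 : F9.div (cj Z) z = F9.I - F9.one
      · rw [if_pos h2, if_pos h2, h4]
      · rw [if_neg h2, if_neg h2, one_pow]
  · rw [if_neg hw, if_neg hw]
    exact zero_pow (by norm_num)

theorem cj_eq_mul : ∀ w z Z : F9, cj w = F9.mul Z (cj z) ↔ w = F9.mul (cj Z) z := by decide +kernel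

theorem phiM_B (H : Good ω) (Z : F9) : phiM H (j3B F Z) = j3B F (cj Z) := by
  ext w z
  rw [phiM_apply]
  simp only [j3B, Matrix.of_apply, cj_eq_mul]
  split_ifs
  · exact one_pow _
  · exact zero_pow (by norm_num)

theorem cj_C : ∀ w z Z : F9, (cj w = -F9.div Z (cj z) ∨ cj w = F9.mul F9.I (F9.div Z (cj z)) ∨
      cj w = -F9.mul F9.I (F9.div Z (cj z))) ↔
    (w = -F9.div (cj Z) z ∨ w = F9.mul F9.I (F9.div (cj Z) z) ∨ w = -F9.mul F9.I (F9.div (cj Z) z)) := by
  decide +kernel

theorem phiM_C (H : Good ω) (Z : F9) : phiM H (j3C F Z) = j3C F (cj Z) := by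
  ext w z
  rw [phiM_apply]
  simp only [j3C, Matrix.of_apply, cj_eq_zero, cj_C]
  split_ifs
  · exact one_pow _
  · exact zero_pow (by norm_num)
  · exact one_pow _
  · exact zero_pow (by norm_num)

/-- the semilinear map on `GL₉` -/
def phiG (H : Good ω) : GL F9 F →* GL F9 F := Units.map (phiM H : Matrix F9 F9 F →* Matrix F9 F9 F)

theorem phiG_coe (H : Good ω) (g : GL F9 F) : ((phiG H g : GL F9 F) : Matrix F9 F9 F) = phiM H g := rfl

theorem phiG_mem [Fintype F] (hF : Fintype.card F = 4) (H : Good ω) {g : GL F9 F} (hg : g ∈ threeJ3 F ω) :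
    phiG H g ∈ threeJ3 F ω := by
  have h : threeJ3 F ω ≤ (threeJ3 F ω).comap (phiG H) := by
    conv_lhs => unfold threeJ3
    rw [closure_le]
    intro x hx
    have hcj : ∀ Z : F9, Z ≠ 0 → cj Z ≠ 0 := fun Z hZ h => hZ ((cj_eq_zero Z).1 h)
    show phiG H x ∈ threeJ3 F ω
    rcases hx with (((⟨Z, hZ⟩ | ⟨Z, hZ⟩) | ⟨Z, hZ⟩) | ⟨Z, hZ0, hZ⟩) | ⟨Z, hZ0, hZ⟩
    · refine subset_closure ?_
      show phiM H (x : Matrix F9 F9 F) ∈ j3Gens F ω
      rw [← hZ, phiM_A]
      exact Or.inl (Or.inl (Or.inl (Or.inl ⟨_, rfl⟩)))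
    · obtain ⟨e, he⟩ := exists_mem hF H (M := j3E F ω (cj Z)) (Or.inl (Or.inl (Or.inl (Or.inr ⟨_, rfl⟩))))
      have h1 : phiG H x = ((e⁻¹ : threeJ3 F ω) : GL F9 F) := by
        rw [coe_inv, eq_inv_iff_mul_eq_one]
        apply Units.ext
        show phiM H (x : Matrix F9 F9 F) * mat ω e = 1
        rw [he, ← hZ, phiM_E]
      rw [h1]
      exact (e⁻¹).2
    · refine subset_closure ?_
      show phiM H (x : Matrix F9 F9 F) ∈ j3Gens F ω
      rw [← hZ, phiM_D]
      exact Or.inl (Or.inl (Or.inr ⟨_, rfl⟩))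
    · refine subset_closure ?_
      show phiM H (x : Matrix F9 F9 F) ∈ j3Gens F ω
      rw [hZ, phiM_B]
      exact Or.inl (Or.inr ⟨_, hcj Z hZ0, rfl⟩)
    · refine subset_closure ?_
      show phiM H (x : Matrix F9 F9 F) ∈ j3Gens F ω
      rw [hZ, phiM_C]
      exact Or.inr ⟨_, hcj Z hZ0, rfl⟩
  exact h hg

theorem phiG_phiG [Fintype F] (hF : Fintype.card F = 4) (H : Good ω) (g : GL F9 F) : phiG H (phiG H g) = g := by
  apply Units.ext
  exact phiM_phiM hF H _

/-- the semilinear automorphism of `3·J₃` -/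
def phi [Fintype F] (hF : Fintype.card F = 4) (H : Good ω) : MulAut (threeJ3 F ω) where
  toFun g := ⟨phiG H g, phiG_mem hF H g.2⟩
  invFun g := ⟨phiG H g, phiG_mem hF H g.2⟩
  left_inv _ := Subtype.ext (phiG_phiG hF H _)
  right_inv _ := Subtype.ext (phiG_phiG hF H _)
  map_mul' _ _ := Subtype.ext (map_mul (phiG H) _ _)

theorem mat_phi [Fintype F] (hF : Fintype.card F = 4) (H : Good ω) (g : threeJ3 F ω) :
    mat ω (phi hF H g) = phiM H (mat ω g) := rfl

/-- no homomorphism to the centre -/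
theorem hom_center [Fintype F] (hF : Fintype.card F = 4) (H : Good ω)
    (f : threeJ3 F ω →* center (threeJ3 F ω)) : f = 1 := by
  obtain ⟨G⟩ := exists_gens hF H
  obtain ⟨s, hs⟩ := exists_scalar H G
  have h1 : f.ker = ⊤ := by
    apply Cfsg.Agent.J3.Simple.hom_trivial H G hs f
    intro y hy
    have h2 : orderOf (f y) ∣ 19 := by rw [← hy]; exact orderOf_map_dvd f y
    have h3 : orderOf (f y) ∣ Nat.card (center (threeJ3 F ω)) := orderOf_dvd_natCard _
    rw [card_center hF H] at h3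
    have h4 : orderOf (f y) ∣ Nat.gcd 19 3 := Nat.dvd_gcd h2 h3
    rw [show Nat.gcd 19 3 = 1 by norm_num, Nat.dvd_one, orderOf_eq_one_iff] at h4
    exact h4
  refine MonoidHom.ext fun x => ?_
  have h2 : x ∈ f.ker := by rw [h1]; trivial
  exact h2

/-- the semilinear automorphism is not inner: it inverts the centre -/
theorem phi_not_inner [Fintype F] (hF : Fintype.card F = 4) (H : Good ω) (k : threeJ3 F ω) :
    phi hF H ≠ MulAut.conj k := by
  intro h
  obtain ⟨G⟩ := exists_gens hF H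
  obtain ⟨s, hs⟩ := exists_scalar H G
  have hsc : s ∈ center (threeJ3 F ω) := by
    rw [center_eq hF H hs]
    exact mem_zpowers s
  have h1 : phi hF H s = s := by
    rw [h, MulAut.conj_apply, mem_center_iff.1 hsc k, mul_inv_cancel_right]
  have h2 := congrArg (fun t => mat ω t (0 : F9) (0 : F9)) h1
  simp only [mat_phi, phiM_apply, hs] at h2
  have h3 : cj 0 = 0 := (cj_eq_zero 0).2 rfl
  rw [h3, Matrix.smul_apply, Matrix.one_apply_eq, smul_eq_mul, mul_one] at h2
  have h4 : ω * (ω - 1) = 0 := by linear_combination h2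
  rcases mul_eq_zero.1 h4 with h5 | h5
  · exact H.ne_zero h5
  · exact H.ne_one (sub_eq_zero.1 h5)

/-- **`J₃` has an automorphism which is not inner.** -/
theorem exists_not_inner [Fintype F] (hF : Fintype.card F = 4) (H : Good ω) :
    ∃ α : MulAut (J3 F ω), ∀ k, α ≠ MulAut.conj k :=
  ⟨OutGen.centerQuot (phi hF H), OutGen.centerQuot_not_inner (hom_center hF H) (phi_not_inner hF H)⟩

end phi

end Cfsg.Agent.H55.JThree
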