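import Cfsg.Agent.H55.CoOneLow
import Cfsg.Agent.LThreeMB.CoOneFin
import Cfsg.Agent.MFive.JTwo
import Cfsg.Agent.CpAutMSeven.RanksH
import Cfsg.Agent.H820.SevenL32
import Cfsg.Agent.BpSpor.MBigCo
import Cfsg.Agent.H604.Cop.Conway
import Cfsg.Agent.H800.ME.CoFacts

/-!
# Bounds for the odd parts of the centralizers of the elements of odd prime order of `Co1` (helper55)

* `OddLe n B` : the odd part of `n` is at most `B`;
* `big` : `OddLe |C(s)| 455625` for `s` of prime order at least five;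
* `three` : `OddLe |C(s)| 688905` for `s` of order three, unless `s` is in the class `3A`;
* `nine` : `OddLe |C(y)| 164025` for `y` of order nine, `y ^ 3` in the class `3A`.
-/

set_option autoImplicit false

namespace Cfsg.Agent.H55.CoOneBd

open Cfsg Subgroup Module
open Cfsg.Agent.SigZeroCo2.Rank (fix mem_fix mov)
open Cfsg.Agent.SigZeroCo2.Lin (rep Sp)
open Cfsg.Agent.LThreeMB (fr XX Zx)
open Cfsg.Agent.H55.CoOneLow
open Cfsg.Spor (Co1)

/-- the odd part is at most `B` -/
def OddLe (n B : ℕ) : Prop := ∃ m : ℕ, m ≠ 0 ∧ m ≤ B ∧ n ∣ 2 ^ 22 * m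

theorem OddLe.mono {n B C : ℕ} (h : OddLe n B) (hBC : B ≤ C) : OddLe n C := by
  obtain ⟨m, h0, h1, h2⟩ := h
  exact ⟨m, h0, h1.trans hBC, h2⟩

theorem OddLe.of_dvd {n k B : ℕ} (h : OddLe n B) (hk : k ∣ n) : OddLe k B := by
  obtain ⟨m, h0, h1, h2⟩ := h
  exact ⟨m, h0, h1, hk.trans h2⟩

theorem card_co1 : Nat.card Co1 = 4157776806543360000 := H800.ME.CoFacts.card_co1

instance finite_co1 : Finite Co1 := H800.ME.CoFacts.finite_co1

/-- `|C_{Co1}(a)|` divides `|C_{Co0}(a)|` for `a` of odd order -/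
theorem card_cent_dvd {a : Co0} {n : ℕ} (hn : Odd n) (ha : a ^ n = 1) :
    Nat.card ↥(centralizer ({(QuotientGroup.mk a : Co1)} : Set Co1)) ∣ Nat.card ↥(centralizer ({a} : Set Co0)) := by
  let f : ↥(centralizer ({a} : Set Co0)) →* ↥(centralizer ({(QuotientGroup.mk a : Co1)} : Set Co1)) :=
    ((QuotientGroup.mk' (center Co0)).comp (Subgroup.subtype _)).codRestrict _ (by
      intro c
      have h1 := mem_centralizer_singleton_iff.1 c.2
      rw [mem_centralizer_singleton_iff]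
      change (QuotientGroup.mk (c : Co0) : Co1) * QuotientGroup.mk a = QuotientGroup.mk a * QuotientGroup.mk (c : Co0)
      rw [← QuotientGroup.mk_mul, ← QuotientGroup.mk_mul, h1])
  refine Subgroup.card_dvd_of_surjective f ?_
  rintro ⟨c, hc⟩
  obtain ⟨b, rfl⟩ := QuotientGroup.mk_surjective c
  have h1 := mem_centralizer_singleton_iff.1 hc
  exact ⟨⟨b, mem_centralizer_singleton_iff.2 (LThreeBX.NoSeven.comm_of_mk hn ha h1.symm).symm⟩, rfl⟩

theorem card_cent_XX {G : Type*} [Group G] [Finite G] (x : G) :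
    Nat.card ↥(centralizer ({x} : Set G)) = Nat.card (XX x) * orderOf x := by
  rw [Subgroup.card_eq_card_quotient_mul_card_subgroup (Zx x)]
  congr 1
  have h : (LThreeMB.self x : ↥(centralizer ({x} : Set G))) = ⟨x, mem_centralizer_singleton_iff.2 rfl⟩ := rfl
  rw [Zx, Nat.card_zpowers, h, Subgroup.orderOf_mk]

theorem card_cent_conj {G : Type*} [Group G] {x y : G} (h : IsConj x y) :
    Nat.card ↥(centralizer ({x} : Set G)) = Nat.card ↥(centralizer ({y} : Set G)) := by
  obtain ⟨g, hg⟩ := isConj_iff.1 h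
  obtain ⟨⟨e⟩, -⟩ := LThreeMB.exists_XX_equiv hg
  exact Nat.card_congr e.toEquiv

/-- lifts of prime order -/
theorem exists_lift {s : Co1} {r : ℕ} (hr : r.Prime) (h2 : r ≠ 2) (hs : orderOf s = r) :
    ∃ a : Co0, (QuotientGroup.mk a : Co1) = s ∧ a ^ r = 1 ∧ orderOf a = r := by
  have : Fact r.Prime := ⟨hr⟩
  obtain ⟨a, ha, ha13⟩ := LThreeBX.NoSeven.exists_odd (n := r) (hr.odd_of_ne_two h2)
    (show s ^ r = 1 by rw [← hs, pow_orderOf_eq_one])
  refine ⟨a, ha, ha13, orderOf_eq_prime ha13 ?_⟩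
  rintro rfl
  have h1 : s = 1 := ha.symm
  rw [h1, orderOf_one] at hs
  exact hr.one_lt.ne hs

/-! ### Order five -/

theorem bd_five {s : Co1} (hs : orderOf s = 5) : OddLe (Nat.card ↥(centralizer ({s} : Set Co1))) 455625 := by
  rcases CoFive.Ranks.ranks s hs with h | h | h
  · have h1 := MFive.JTwo.isoJ2 hs h
    obtain ⟨e⟩ := h1
    have h2 : Nat.card Cfsg.Spor.J2 = 604800 := Cfsg.Agent.S1619.result.2.2.2
    rw [card_cent_XX, hs, Nat.card_congr e.toEquiv, h2]
    exact ⟨23625, by norm_num, by norm_num, by norm_num⟩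
  · obtain ⟨a, rfl, ha, hao⟩ := exists_lift (by norm_num) (by norm_num) hs
    exact ⟨455625, by norm_num, by norm_num, (card_cent_dvd (by decide) ha).trans
      (five_dvd hao (CoFiveC.Main.finrank_of_fr hao h))⟩
  · rw [MFiveHN.UpEight.card_cent hs h]
    exact ⟨1125, by norm_num, by norm_num, by norm_num⟩

/-! ### Order seven -/

theorem bd_seven {s : Co1} (hs : orderOf s = 7) : OddLe (Nat.card ↥(centralizer ({s} : Set Co1))) 2205 := by
  rcases CpAutMSeven.RanksH.main hs with h | ⟨h, -⟩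
  · obtain ⟨a, rfl, ha, hao⟩ := exists_lift (by norm_num) (by norm_num) hs
    refine ⟨2205, by norm_num, by norm_num, (card_cent_dvd (by decide) ha).trans ?_⟩
    exact (H813.CoSevenCard.card_dvd hao (LThreeBX.NoSeven.free_of_fr h)).trans (by norm_num)
  · have h0 : orderOf CpAutMSeven.RanksH.s0 = 7 := by
      obtain ⟨g, hg⟩ := isConj_iff.1 h
      rw [← hs, ← hg]
      exact MulEquiv.orderOf_eq (MulAut.conj g) s
    rw [card_cent_conj h, card_cent_XX, h0, H820.SevenL32.card_XX]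
    exact ⟨147, by norm_num, by norm_num, by norm_num⟩

/-! ### Orders 11, 13, 23 -/

theorem bd_eleven {s : Co1} (hs : orderOf s = 11) : OddLe (Nat.card ↥(centralizer ({s} : Set Co1))) 33 := by
  obtain ⟨g, hg⟩ := H800.ME.CoFacts.conj_s hs
  rw [← card_cent_conj (isConj_iff.2 ⟨g, hg⟩), H800.ME.CoFacts.card_cent]
  exact ⟨33, by norm_num, by norm_num, by norm_num⟩

theorem bd_thirteen {s : Co1} (hs : orderOf s = 13) : OddLe (Nat.card ↥(centralizer ({s} : Set Co1))) 255879 := by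
  obtain ⟨a, rfl, ha, hao⟩ := exists_lift (by norm_num) (by norm_num) hs
  refine ⟨255879, by norm_num, by norm_num, (card_cent_dvd (by decide) ha).trans ?_⟩
  have h0 : Nat.card (centralizer ({a} : Set Co0)) ≠ 0 := Nat.card_pos.ne'
  have h1 : Nat.card (centralizer ({a} : Set Co0)) ∣ 8315553613086720000 := by
    have := card_subgroup_dvd_card (centralizer ({a} : Set Co0))
    rwa [card_co0] at this
  have hq : ∀ q : ℕ, q.Prime → 5 ≤ q → q ≠ 13 → ¬ q ^ (0 + 1) ∣ Nat.card (centralizer ({a} : Set Co0)) := by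
    intro q hq h7 h13
    rw [zero_add, pow_one]
    exact BpSpor.MBigCo.not_dvd_thirteen hao hq h7 h13
  have h3 := H813.CoSevenCard.reduce Nat.prime_five 4 0 h0 (M := 2 ^ 22 * (3 ^ 9 * 7 ^ 2 * 11 * 13 * 23)) (by
    refine h1.trans ?_
    norm_num) (hq 5 (by norm_num) (by norm_num) (by norm_num))
  have h5 := H813.CoSevenCard.reduce (p := 7) (by norm_num) 2 0 h0 (M := 2 ^ 22 * (3 ^ 9 * 11 * 13 * 23)) (by
    refine h3.trans ?_
    norm_num) (hq 7 (by norm_num) (by norm_num) (by norm_num))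
  have h6 := H813.CoSevenCard.reduce (p := 11) (by norm_num) 1 0 h0 (M := 2 ^ 22 * (3 ^ 9 * 13 * 23)) (by
    refine h5.trans ?_
    norm_num) (hq 11 (by norm_num) (by norm_num) (by norm_num))
  have h8 := H813.CoSevenCard.reduce (p := 23) (by norm_num) 1 0 h0 (M := 2 ^ 22 * (3 ^ 9 * 13)) (by
    refine h6.trans ?_
    norm_num) (hq 23 (by norm_num) (by norm_num) (by norm_num))
  refine h8.trans ?_
  norm_num

theorem bd_23 {s : Co1} (hs : orderOf s = 23) : OddLe (Nat.card ↥(centralizer ({s} : Set Co1))) 46 := by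
  obtain ⟨a, rfl, ha, hao⟩ := exists_lift (by norm_num) (by norm_num) hs
  have h1 := H604.Cop.Conway.card_cent_co0 hao
  have h2 := Nat.le_of_dvd Nat.card_pos (card_cent_dvd (by decide) ha)
  exact ⟨_, Nat.card_pos.ne', h2.trans h1, dvd_mul_left _ _⟩

/-- **Elements of prime order at least five of `Co1`.** -/
theorem big {s : Co1} (hr : (orderOf s).Prime) (h5 : 5 ≤ orderOf s) :
    OddLe (Nat.card ↥(centralizer ({s} : Set Co1))) 455625 := by
  have h1 : orderOf s ∣ 4157776806543360000 := card_co1 ▸ orderOf_dvd_natCard s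
  have h2 : (4157776806543360000 : ℕ) = 2 ^ 21 * (3 ^ 9 * (5 ^ 4 * (7 ^ 2 * (11 * (13 * 23))))) := by norm_num
  rw [h2] at h1
  have key : ∀ {q n : ℕ}, q.Prime → orderOf s ∣ q ^ n → orderOf s = q := fun hq h =>
    (Nat.prime_dvd_prime_iff_eq hr hq).1 (hr.dvd_of_dvd_pow h)
  rcases (hr.dvd_mul).1 h1 with h | h
  · have := key (by norm_num) h; omega
  rcases (hr.dvd_mul).1 h with h | h
  · have := key (by norm_num) h; omega
  rcases (hr.dvd_mul).1 h with h | h
  · exact bd_five (key (by norm_num) h)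
  rcases (hr.dvd_mul).1 h with h | h
  · exact (bd_seven (key (by norm_num) h)).mono (by norm_num)
  rcases (hr.dvd_mul).1 h with h | h
  · exact (bd_eleven ((Nat.prime_dvd_prime_iff_eq hr (by norm_num)).1 h)).mono (by norm_num)
  rcases (hr.dvd_mul).1 h with h | h
  · exact (bd_thirteen ((Nat.prime_dvd_prime_iff_eq hr (by norm_num)).1 h)).mono (by norm_num)
  · exact (bd_23 ((Nat.prime_dvd_prime_iff_eq hr (by norm_num)).1 h)).mono (by norm_num)

/-! ### Order three -/

/-- the odd part of `|C(s)|` for `fr s = 2 ^ 6` -/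
theorem bd_six {s : Co1} (hs : orderOf s = 3) (h : fr s = 2 ^ 6) :
    OddLe (Nat.card ↥(centralizer ({s} : Set Co1))) 688905 := by
  obtain ⟨g, hg⟩ := LThreeCo1.Ranks.conj_rep LThreeCo1.Ranks.uniq6 hs h
  rw [card_cent_conj (isConj_iff.2 ⟨g, hg⟩)]
  refine ⟨688905, by norm_num, by norm_num, ?_⟩
  refine (card_cent_dvd (n := 3) (by decide) (by rw [← LThreeCo1.Class.order_c6, pow_orderOf_eq_one])).trans ?_
  exact six_dvd LThreeCo1.Class.order_c6 LThreeCo1Six.Data.dx LThreeCo1Six.Data.reg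

theorem bd_eight {s : Co1} (hs : orderOf s = 3) (h : fr s = 2 ^ 8) :
    OddLe (Nat.card ↥(centralizer ({s} : Set Co1))) 8505 := by
  obtain ⟨t, ht, hft, ⟨e⟩, -⟩ := LThreeMB.CEight.nine
  obtain ⟨g, hg⟩ := LThreeCo1.Ranks.eight s t hs ht h hft
  have h9 := LThreeCo1Twelve.Elim.card_alt 9 (by norm_num)
  have h9' : Nat.card ↥(alternatingGroup (Fin 9)) = 181440 := by
    have : (9 : ℕ).factorial = 362880 := by decide
    omega
  rw [card_cent_conj (isConj_iff.2 ⟨g, hg⟩), card_cent_XX, ht, Nat.card_congr e.toEquiv, h9']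
  exact ⟨8505, by norm_num, by norm_num, by norm_num⟩

theorem bd_twelve {s : Co1} (hs : orderOf s = 3) (h : fr s = 2 ^ 12) :
    OddLe (Nat.card ↥(centralizer ({s} : Set Co1))) 229635 := by
  obtain ⟨t, ht, hft, hct, -⟩ := LThreeMB.CoOneFin.coOne.psu
  obtain ⟨g, hg⟩ := LThreeCo1.Ranks.twelve s t hs ht h hft
  obtain ⟨E, M, iE, iM, K, iK, iK', hEM, hE, hM, hK, ⟨e⟩⟩ := hct.chain
  have h1 : Nat.card ↥M = Nat.card (↥M ⧸ E.subgroupOf M) * Nat.card ↥(E.subgroupOf M) :=
    Subgroup.card_eq_card_quotient_mul_card_subgroup _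
  rw [Nat.card_congr e.toEquiv, LThreeB.card_psu hK,
    Nat.card_congr (Subgroup.subgroupOfEquivOfLe hEM).toEquiv, hE] at h1
  have h2 := M.card_mul_index
  rw [h1, hM] at h2
  rw [card_cent_conj (isConj_iff.2 ⟨g, hg⟩), card_cent_XX, ht, ← h2]
  exact ⟨229635, by norm_num, by norm_num, by norm_num⟩

/-- **Elements of order three of `Co1` not in the class `3A`.** -/
theorem three {s : Co1} (hs : orderOf s = 3) (h1 : fr s ≠ 1) :
    OddLe (Nat.card ↥(centralizer ({s} : Set Co1))) 688905 := by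
  rcases LThreeCo1.Ranks.ranks s hs with h | h | h | h
  · exact absurd h h1
  · exact bd_six hs h
  · exact (bd_eight hs h).mono (by norm_num)
  · exact (bd_twelve hs h).mono (by norm_num)

/-- the order of the centralizer of an element of the class `3A` -/
theorem card_zero {s : Co1} (hs : orderOf s = 3) (h1 : fr s = 1) :
    Nat.card ↥(centralizer ({s} : Set Co1)) = 448345497600 * 3 := by
  obtain ⟨e⟩ := LThreeMB.CoOneFin.coOne.suz s hs h1
  rw [card_cent_XX, hs, Nat.card_congr e.toEquiv, Cfsg.Agent.S1694.result.2]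

/-! ### Order nine -/

/-- **Elements of order nine of `Co1` with cube in the class `3A`.** -/
theorem nine {y : Co1} (hy : orderOf y = 9) (h1 : fr (y ^ 3) = 1) :
    OddLe (Nat.card ↥(centralizer ({y} : Set Co1))) 164025 := by
  obtain ⟨a, ha, ha9⟩ := LThreeBX.NoSeven.exists_odd (n := 9) (by decide)
    (show y ^ 9 = 1 by rw [← hy, pow_orderOf_eq_one])
  have ha' : (QuotientGroup.mk a : Co1) = y := ha
  have hao : orderOf a = 9 := by
    apply Nat.dvd_antisymm
    · exact orderOf_dvd_of_pow_eq_one ha9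
    · rw [← hy, ← ha']
      exact orderOf_map_dvd (QuotientGroup.mk' (center Co0)) a
  have hy3 : orderOf (y ^ 3) = 3 := by
    rw [orderOf_pow_of_dvd (by norm_num) (by rw [hy]; norm_num), hy]
  have hfree : ∀ v : leechLattice, (a ^ 3) • v = v → v = 0 := by
    apply LThreeBX.NoSeven.free_of_fr
    have h3 : (QuotientGroup.mk (a ^ 3) : Co1) = y ^ 3 := by rw [QuotientGroup.mk_pow, ha']
    have h4 : fr (QuotientGroup.mk (a ^ 3) : Co1) = 1 := by rw [h3, h1]
    exact h4
  have hq : ∀ q : ℕ, q.Prime → 7 ≤ q → ¬ q ^ (0 + 1) ∣ Nat.card ↥(centralizer ({y} : Set Co1)) := by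
    intro q hq h7 hd
    rw [zero_add, pow_one] at hd
    refine nine_not_dvd hao hfree hq h7 (hd.trans ?_)
    rw [← ha']
    exact card_cent_dvd (by decide) ha9
  have h0 : Nat.card ↥(centralizer ({y} : Set Co1)) ≠ 0 := Nat.card_pos.ne'
  have hle : centralizer ({y} : Set Co1) ≤ centralizer ({y ^ 3} : Set Co1) := by
    intro c hc
    rw [mem_centralizer_singleton_iff] at hc ⊢
    exact (show Commute c y from hc).pow_right 3
  have h2 := Subgroup.card_dvd_of_le hle
  rw [card_zero hy3 h1] at h2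
  have h5 := H813.CoSevenCard.reduce (p := 7) (by norm_num) 1 0 h0 (M := 2 ^ 13 * (3 ^ 8 * (5 ^ 2 * (11 * 13)))) (by
    refine h2.trans ?_
    norm_num) (hq 7 (by norm_num) (by norm_num))
  have h6 := H813.CoSevenCard.reduce (p := 11) (by norm_num) 1 0 h0 (M := 2 ^ 13 * (3 ^ 8 * (5 ^ 2 * (13)))) (by
    refine h5.trans ?_
    norm_num) (hq 11 (by norm_num) (by norm_num))
  have h8 := H813.CoSevenCard.reduce (p := 13) (by norm_num) 1 0 h0 (M := 2 ^ 13 * (3 ^ 8 * (5 ^ 2))) (by
    refine h6.trans ?_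
    norm_num) (hq 13 (by norm_num) (by norm_num))
  refine ⟨164025, by norm_num, by norm_num, h8.trans ?_⟩
  norm_num

end Cfsg.Agent.H55.CoOneBd
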