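import Cfsg.Agent.H55.SitRed
import Cfsg.Agent.H55.CoOneBd

/-!
# The row `Co1` of S4096, S4094, S3842, S4095 (helper55)

* `card_cent_big` : `|C_L(b)|` divides `2 ^ 22 m`, `m ≤ 455625`, for `b` of prime order at least five;
* `even_or_lt` : `|C_L(b)|` is even or `3 |C_L(b)| < 2 ^ 21` for `b` of prime order at least five;
* `row` : **no situation in `Co1`**.
-/

set_option autoImplicit false

namespace Cfsg.Agent.H55.RowCoOne

open Subgroup Cfsg Cfsg.Agent.H516 Cfsg.Agent.H55.CoOneBd
open Cfsg.Agent.LThreeMB (fr)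

universe u

/-- centralizers along an isomorphism -/
theorem card_cent_equiv {A B : Type*} [Group A] [Group B] (e : A ≃* B) (x : A) :
    Nat.card ↥(centralizer ({x} : Set A)) = Nat.card ↥(centralizer ({e x} : Set B)) := by
  refine Nat.card_congr
    { toFun := fun c => ⟨e c, ?_⟩
      invFun := fun c => ⟨e.symm c, ?_⟩
      left_inv := fun c => Subtype.ext (e.symm_apply_apply _)
      right_inv := fun c => Subtype.ext (e.apply_symm_apply _) }
  · have h := mem_centralizer_singleton_iff.1 c.2
    rw [mem_centralizer_singleton_iff, ← map_mul, ← map_mul, h]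
  · have h := mem_centralizer_singleton_iff.1 c.2
    rw [mem_centralizer_singleton_iff]
    apply e.injective
    rw [map_mul, map_mul, e.apply_symm_apply, h]

variable {L : Type u} [Group L] [Finite L]

omit [Finite L] in
theorem card_of_iso (h : Spor.IsoCo1 L) : Nat.card L = 4157776806543360000 := by
  obtain ⟨e⟩ := h
  rw [Nat.card_congr e.toEquiv, card_co1]

omit [Finite L] in
theorem pow_dvd (h : Spor.IsoCo1 L) : 2 ^ 21 ∣ Nat.card L := by
  rw [card_of_iso h]
  norm_num

omit [Finite L] in
/-- **The centralizers of the elements of prime order at least five.** -/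
theorem card_cent_big (h : Spor.IsoCo1 L) {b : L} (hb : (orderOf b).Prime) (h5 : 5 ≤ orderOf b) :
    ∃ m : ℕ, m ≠ 0 ∧ m ≤ 455625 ∧ Nat.card ↥(centralizer ({b} : Set L)) ∣ 2 ^ 22 * m := by
  obtain ⟨e⟩ := h
  have ho : orderOf (e b) = orderOf b := MulEquiv.orderOf_eq e b
  rw [card_cent_equiv e]
  exact big (by rw [ho]; exact hb) (by rw [ho]; exact h5)

omit [Finite L] in
/-- The bound for helper472. -/
theorem even_or_lt (h : Spor.IsoCo1 L) {b : L} (hb : (orderOf b).Prime) (h5 : 5 ≤ orderOf b) :
    Even (Nat.card ↥(centralizer ({b} : Set L))) ∨ 3 * Nat.card ↥(centralizer ({b} : Set L)) < 2 ^ 21 := by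
  rcases Nat.even_or_odd (Nat.card ↥(centralizer ({b} : Set L))) with h1 | h1
  · exact Or.inl h1
  · right
    obtain ⟨m, hm0, hm, hd⟩ := card_cent_big h hb h5
    have h2 := (Nat.Coprime.pow_right 22 (Nat.coprime_two_right.2 h1)).dvd_of_dvd_mul_left hd
    have h3 := Nat.le_of_dvd (Nat.pos_of_ne_zero hm0) h2
    omega

/-- **Row `Co1`.** -/
theorem row (h : Spor.IsoCo1 L) {p : ℕ} {a : MulAut L} {b : L} (S : Sit p a b) : False := by
  have key : ∀ b' : L, Sit p a b' → 5 ≤ orderOf b' → False := by
    intro b' S' h5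
    obtain ⟨m, hm0, hm, hd⟩ := card_cent_big h S'.bprime h5
    exact S'.false_of_dvd (pow_dvd h) hd hm0 (by omega)
  have h2 : ∀ b' : L, Sit p a b' → orderOf b' ≠ 3 → 5 ≤ orderOf b' := by
    intro b' S' h3
    have hp := S'.bprime
    have h2 := S'.b_ne_two
    by_contra hlt
    have h4 := hp.two_le
    have h6 : orderOf b' = 4 := by omega
    rw [h6] at hp
    norm_num at hp
  by_cases h3 : orderOf b = 3
  · obtain ⟨e⟩ := id h
    have ho : orderOf (e b) = 3 := by rw [MulEquiv.orderOf_eq e b, h3]
    by_cases hf : fr (e b) = 1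
    · have hc := card_zero ho hf
      rw [← card_cent_equiv e] at hc
      rcases SitRed.split S (by rw [hc]; decide) with ⟨b', hb', S'⟩ | ⟨y, hy, hyb, hya, hle⟩
      · rw [h3] at hb'
        exact key b' S' (h2 b' S' hb')
      · rw [h3] at hy hyb
        obtain ⟨m, hm0, hm, hd⟩ := nine (y := e y) (by rw [MulEquiv.orderOf_eq e y, hy]; norm_num)
          (by rw [← map_pow, hyb, hf])
        rw [← card_cent_equiv e] at hd
        have h4 := (Subgroup.card_dvd_of_le hle).trans hd
        have h5 := (Nat.Coprime.pow_right 22 (Nat.coprime_two_right.2 S.odd)).dvd_of_dvd_mul_left h4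
        have h6 := Nat.le_of_dvd (Nat.pos_of_ne_zero hm0) h5
        have h7 := S.two_pow_le (pow_dvd h)
        omega
    · obtain ⟨m, hm0, hm, hd⟩ := three ho hf
      rw [← card_cent_equiv e] at hd
      exact S.false_of_dvd (pow_dvd h) hd hm0 (by omega)
  · exact key b S (h2 b S h3)

end Cfsg.Agent.H55.RowCoOne
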