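import Cfsg.Agent.CoFiveC.Row
import Cfsg.Agent.CoFiveFour.Ker
import Cfsg.Agent.H813.CoSevenCard
import Cfsg.Agent.LThreeCo1Six.Ker
import Cfsg.Agent.LThreeCo1Six.Data
import Cfsg.Agent.LThreeCo1.Class
import Cfsg.Agent.CpAutCoFive.Core

/-!
# Orders of centralizers in `Co0` of elements of order five of fixed dimension 4, of elements of order three of fixed
dimension 6 and of elements of order nine whose cube is free (helper55)

* `five_dvd` : `|C(x)|` divides `2^22 3^6 5^4` for `x` of order five, `dim V^x = 4`;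
* `six_dvd` : `|C(x)|` divides `2^22 3^9 5 7` for `x` of order three, `dim V^x = 6`;
* `nine_not_dvd` : no prime `q ≥ 7` divides `|C(y)|` for `y` of order nine, `y ^ 3` free.
-/

set_option autoImplicit false

namespace Cfsg.Agent.H55.CoOneLow

open Cfsg Subgroup Module
open Cfsg.Agent.SigZeroCo2.Rank (fix mem_fix mov)
open Cfsg.Agent.SigZeroCo2.Lin (rep Sp)
open Cfsg.Agent.PreUniqCo.Rat Cfsg.Agent.PreUniqCo.LatCo Cfsg.Agent.PreUniqCo.FixBound
open Cfsg.Agent.LThreeCo1.AGrp (Ph hom)
open Cfsg.Agent.H813.CoSevenCard (reduce)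

theorem finrank_Sp : finrank ℚ Sp = 24 := PreUniqCo.FiveCo.finrank_Sp

theorem card_co0 : Nat.card Co0 = 8315553613086720000 := S0397.result

instance finite_co0 : Finite Co0 := Nat.finite_of_card_ne_zero (by rw [card_co0]; norm_num)

/-! ### Intersections with an elementary abelian group of order `3 ^ 6` -/

/-- If `|P| = p ^ k` and `E` is a `p`-group of order `p ^ e`, `p ^ n` the `p`-part of `|G|`, then a conjugate of `E` meets
`P` in at least `p ^ (k + e - n)` elements. -/
theorem exists_inf {G : Type*} [Group G] [Finite G] {p : ℕ} (hp : p.Prime) {P E : Subgroup G} (hP : IsPGroup p P)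
    (hE : IsPGroup p E) {n m : ℕ} (hG : Nat.card G = p ^ n * m) (hm : ¬ p ∣ m) :
    ∃ g : G, Nat.card P * Nat.card E ≤ Nat.card ↥(P ⊓ E.map (MulAut.conj g).toMonoidHom) * p ^ n := by
  have hf : Fact p.Prime := ⟨hp⟩
  obtain ⟨S, hS⟩ := hP.exists_le_sylow
  obtain ⟨T, hT⟩ := hE.exists_le_sylow
  obtain ⟨g, hg⟩ := MulAction.exists_smul_eq G T S
  refine ⟨g, ?_⟩
  set E' := E.map (MulAut.conj g).toMonoidHom with hE'
  have h1 : E' ≤ (S : Subgroup G) := by
    rw [← hg]
    rintro _ ⟨e, he, rfl⟩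
    exact ⟨e, hT he, rfl⟩
  have h2 : P.relIndex E' ≤ P.relIndex (S : Subgroup G) := by
    refine Subgroup.relIndex_le_of_le_right h1 ?_
    exact (Subgroup.index_ne_zero_of_finite)
  have h3 : Nat.card ↥(P ⊓ E') * P.relIndex E' = Nat.card E' := by
    have := Subgroup.card_mul_index (P.subgroupOf E')
    rw [← this, Subgroup.relIndex, ← Nat.card_congr (Subgroup.subgroupOfEquivOfLe (inf_le_right : P ⊓ E' ≤ E')).toEquiv,
      Subgroup.inf_subgroupOf_right]
  have h4 : Nat.card P * P.relIndex (S : Subgroup G) = Nat.card (S : Subgroup G) := by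
    have := Subgroup.card_mul_index (P.subgroupOf (S : Subgroup G))
    rw [← this, Subgroup.relIndex, Nat.card_congr (Subgroup.subgroupOfEquivOfLe hS).toEquiv]
  have h5 : Nat.card (S : Subgroup G) = p ^ n := by
    rw [Sylow.card_eq_multiplicity, hG]
    congr 1
    rw [Nat.factorization_mul (pow_ne_zero _ hp.ne_zero) (fun h => hm (by rw [h]; exact dvd_zero p)),
      Nat.Prime.factorization_pow hp]
    simp [Nat.factorization_eq_zero_of_not_dvd hm]
  have h6 : Nat.card E' = Nat.card E := Nat.card_congr (Subgroup.equivMapOfInjective E _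
    (MulAut.conj g).injective).symm.toEquiv
  have hpos : 0 < P.relIndex (S : Subgroup G) := Nat.pos_of_ne_zero Subgroup.index_ne_zero_of_finite
  have hpos' : 0 < P.relIndex E' := Nat.pos_of_ne_zero Subgroup.index_ne_zero_of_finite
  rw [← h5, ← h6, ← h3, ← h4]
  calc Nat.card P * (Nat.card ↥(P ⊓ E') * P.relIndex E')
      ≤ Nat.card P * (Nat.card ↥(P ⊓ E') * P.relIndex (S : Subgroup G)) := by gcongr
    _ = _ := by ring

theorem hom_injective : Function.Injective (hom LThreeCo1.Class.hA) := fun _ _ h =>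
  LThreeCo1.Class.ph_inj h

/-- the conjugate by `g` of the elementary abelian group of order `3 ^ 6` -/
noncomputable def hh (g : Co0) : Multiplicative LThreeCo1.AGrp.V →* Co0 :=
  (MulAut.conj g).toMonoidHom.comp (hom LThreeCo1.Class.hA)

theorem hh_injective (g : Co0) : Function.Injective (hh g) := (MulAut.conj g).injective.comp hom_injective

theorem cube_V (v : Multiplicative LThreeCo1.AGrp.V) : v ^ 3 = 1 := by
  apply hom_injective
  rw [map_pow, map_one]
  exact LThreeCo1.Class.hA.ph_cube _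

theorem card_V : Nat.card (Multiplicative LThreeCo1.AGrp.V) = 3 ^ 6 := by
  rw [Nat.card_congr (Multiplicative.toAdd), Nat.card_eq_fintype_card, Fintype.card_fun, ZMod.card, Fintype.card_fin]

/-- **A subgroup of order `3 ^ k` meets a conjugate of the group of order `3 ^ 6` in at least `3 ^ (k - 3)` elements.** -/
theorem exists_comap {P : Subgroup Co0} {k : ℕ} (hP : Nat.card P = 3 ^ (k + 3)) :
    ∃ g : Co0, 3 ^ k ≤ Nat.card ↥(P.comap (hh g)) := by
  have hPp : IsPGroup 3 P := IsPGroup.of_card hP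
  have hE : Nat.card ↥(hom LThreeCo1.Class.hA).range = 3 ^ 6 := by
    rw [← card_V]
    exact Nat.card_congr (MonoidHom.ofInjective hom_injective).symm.toEquiv
  obtain ⟨g, hg⟩ := exists_inf Nat.prime_three hPp (E := (hom LThreeCo1.Class.hA).range) (IsPGroup.of_card hE) (n := 9)
    (m := 422473891840000) (by rw [card_co0]; norm_num) (by norm_num)
  refine ⟨g, ?_⟩
  have h1 : Nat.card ↥(P ⊓ (hom LThreeCo1.Class.hA).range.map (MulAut.conj g).toMonoidHom) ≤
      Nat.card ↥(P.comap (hh g)) := by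
    have h2 : P ⊓ (hom LThreeCo1.Class.hA).range.map (MulAut.conj g).toMonoidHom ≤ (P.comap (hh g)).map (hh g) := by
      rintro x ⟨hx, _, ⟨v, rfl⟩, rfl⟩
      exact ⟨v, hx, rfl⟩
    refine le_trans (Subgroup.card_le_of_le h2) ?_
    exact Nat.card_le_card_of_surjective _ ((hh g).subgroupMap_surjective (P.comap (hh g)))
  rw [hP, hE] at hg
  have h3 : 3 ^ (k + 3) * 3 ^ 6 = 3 ^ k * 3 ^ 9 := by ring
  rw [h3] at hg
  exact le_trans (Nat.le_of_mul_le_mul_right hg (by positivity)) h1

/-! ### Elements of order five of fixed dimension 4 -/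

theorem not_three_pow {x : Co0} (hx : orderOf x = 5) (h4 : finrank ℚ (fix (rep x)) = 4) :
    ¬ 3 ^ 7 ∣ Nat.card (centralizer ({x} : Set Co0)) := by
  intro hd
  have hf : Fact (Nat.Prime 3) := ⟨Nat.prime_three⟩
  obtain ⟨K, hK⟩ := Sylow.exists_subgroup_card_pow_prime 3 hd
  have hKm : Nat.card (K.map (centralizer ({x} : Set Co0)).subtype) = 3 ^ (4 + 3) := by
    rw [Subgroup.card_map_of_injective (Subgroup.subtype_injective _), hK]
  obtain ⟨g, hg⟩ := exists_comap (k := 4) hKm
  set A := (K.map (centralizer ({x} : Set Co0)).subtype).comap (hh g) with hA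
  have hcomm : ∀ a ∈ A, Commute x (hh g a) := by
    rintro a ⟨k, -, hk⟩
    have h1 := mem_centralizer_singleton_iff.1 k.2
    change (k : Co0) = hh g a at hk
    rw [← hk]
    exact h1.symm
  let ρ0 : A →* Module.End ℚ Sp := (rep.comp (hh g)).comp A.subtype
  have hinv : ∀ a : A, ∀ v ∈ fix (rep x), ρ0 a v ∈ fix (rep x) := fun a v hv =>
    fix_comm ((hcomm a a.2).map rep) v hv
  have h3 : ∀ a : A, a ^ 3 = 1 := fun a => Subtype.ext (cube_V _)
  have hb := SigZeroCo2.Rank.rank_bound h3 (SigZeroCo2.Rank.res ρ0 (fix (rep x)) hinv)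
  have hker : Nat.card (SigZeroCo2.Rank.res ρ0 (fix (rep x)) hinv).ker = 1 := by
    rw [Subgroup.card_eq_one, eq_bot_iff]
    intro a ha
    rw [Subgroup.mem_bot]
    by_contra hne
    have h5 := (SigZeroCo2.Rank.mem_ker_res hinv).1 ha
    have hne' : hh g (a : Multiplicative LThreeCo1.AGrp.V) ≠ 1 := by
      intro h6
      apply hne
      apply Subtype.ext
      apply hh_injective g
      rw [h6]
      exact (map_one _).symm
    have ho : orderOf (hh g (a : Multiplicative LThreeCo1.AGrp.V)) = 3 :=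
      orderOf_eq_prime (by rw [← map_pow, cube_V, map_one]) hne'
    refine CoFiveFour.Ker.not_three PreUniqCo.Facts.facts (by rw [← hx, pow_orderOf_eq_one]) h4
      (CoFiveC.Main.reg_of hx h4) (hcomm a a.2) ho fun v hv => ?_
    exact mem_fix.2 (h5 v hv)
  rw [hker, h4] at hb
  have h6 : Nat.card A ^ 2 ≤ 3 ^ 4 := by
    refine le_trans ?_ (le_trans hb (by norm_num))
    exact Nat.le_mul_of_pos_right _ (by positivity)
  have h7 : (3 ^ 4) ^ 2 ≤ Nat.card A ^ 2 := Nat.pow_le_pow_left hg 2
  have h8 := h7.trans h6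
  norm_num at h8

/-- an element of prime order `q` with `q - 1 > dim V^x` commuting with `x` is trivial on `V^x` -/
theorem fix_le_of {x y : Co0} {q : ℕ} (hq : q.Prime) (hxy : Commute x y) (hy : orderOf y = q)
    (h : finrank ℚ (fix (rep x)) < q - 1) : fix (rep x) ≤ fix (rep y) := by
  obtain ⟨k, hk⟩ := sub_prime (fix (rep x)) hq (fix_comm (hxy.map rep)) (y := rep y)
    (by rw [← map_pow, ← hy, pow_orderOf_eq_one, map_one])
  have hk0 : k = 0 := by
    by_contra hne
    have h1 : (q - 1) * 1 ≤ (q - 1) * k := Nat.mul_le_mul_left _ (Nat.pos_of_ne_zero hne)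
    omega
  rw [hk0, mul_zero, add_zero] at hk
  have h1 : fix (rep x) ⊓ fix (rep y) = fix (rep x) := Submodule.eq_of_le_of_finrank_eq inf_le_left hk.symm
  exact inf_eq_left.1 h1

theorem not_dvd_four {x : Co0} (hx : orderOf x = 5) (h4 : finrank ℚ (fix (rep x)) = 4) {q : ℕ} (hq : q.Prime)
    (h7 : 7 ≤ q) : ¬ q ∣ Nat.card (centralizer ({x} : Set Co0)) := by
  intro hd
  have : Fact q.Prime := ⟨hq⟩
  obtain ⟨y, hy⟩ := exists_prime_orderOf_dvd_card' q hd
  have hyo : orderOf (y : Co0) = q := by rw [Subgroup.orderOf_coe, hy]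
  have hxy : Commute x (y : Co0) := (mem_centralizer_singleton_iff.1 y.2).symm
  exact CoFiveFour.Ker.not_odd PreUniqCo.Facts.facts (by rw [← hx, pow_orderOf_eq_one]) h4
      (CoFiveC.Main.reg_of hx h4) hxy hq (by omega) (by omega) hyo (fix_le_of hq hxy hyo (by omega))

/-- **`|C(x)|` divides `2^22 3^6 5^4`** for `x` of order five and fixed dimension 4. -/
theorem five_dvd {x : Co0} (hx : orderOf x = 5) (h4 : finrank ℚ (fix (rep x)) = 4) :
    Nat.card (centralizer ({x} : Set Co0)) ∣ 2 ^ 22 * 455625 := by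
  have h0 : Nat.card (centralizer ({x} : Set Co0)) ≠ 0 := Nat.card_pos.ne'
  have h1 : Nat.card (centralizer ({x} : Set Co0)) ∣ 8315553613086720000 := by
    have := card_subgroup_dvd_card (centralizer ({x} : Set Co0))
    rwa [card_co0] at this
  have hq : ∀ q : ℕ, q.Prime → 7 ≤ q → ¬ q ^ (0 + 1) ∣ Nat.card (centralizer ({x} : Set Co0)) := by
    intro q hq h7
    rw [zero_add, pow_one]
    exact not_dvd_four hx h4 hq h7
  have h3 := reduce Nat.prime_three 9 6 h0 (M := 2 ^ 22 * (5 ^ 4 * 7 ^ 2 * 11 * 13 * 23)) (by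
    refine h1.trans ?_
    norm_num) (not_three_pow hx h4)
  have h5 := reduce (p := 7) (by norm_num) 2 0 h0 (M := 3 ^ 6 * (2 ^ 22 * (5 ^ 4 * 11 * 13 * 23))) (by
    refine h3.trans ?_
    norm_num) (hq 7 (by norm_num) (by norm_num))
  have h6 := reduce (p := 11) (by norm_num) 1 0 h0 (M := 3 ^ 6 * (2 ^ 22 * (5 ^ 4 * 13 * 23))) (by
    refine h5.trans ?_
    norm_num) (hq 11 (by norm_num) (by norm_num))
  have h7 := reduce (p := 13) (by norm_num) 1 0 h0 (M := 3 ^ 6 * (2 ^ 22 * (5 ^ 4 * 23))) (by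
    refine h6.trans ?_
    norm_num) (hq 13 (by norm_num) (by norm_num))
  have h8 := reduce (p := 23) (by norm_num) 1 0 h0 (M := 3 ^ 6 * (2 ^ 22 * (5 ^ 4))) (by
    refine h7.trans ?_
    norm_num) (hq 23 (by norm_num) (by norm_num))
  refine h8.trans ?_
  norm_num

/-! ### Elements of order three of fixed dimension 6 -/

section six

variable {x : Co0} (hx : orderOf x = 3) (h6 : finrank ℚ (fix (rep x)) = 6) (hreg : Reg x)

include hx h6 hreg

theorem six_not_dvd {q : ℕ} (hq : q.Prime) (h11 : 11 ≤ q) : ¬ q ∣ Nat.card (centralizer ({x} : Set Co0)) := by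
  intro hd
  have : Fact q.Prime := ⟨hq⟩
  obtain ⟨y, hy⟩ := exists_prime_orderOf_dvd_card' q hd
  have hyo : orderOf (y : Co0) = q := by rw [Subgroup.orderOf_coe, hy]
  have hxy : Commute x (y : Co0) := (mem_centralizer_singleton_iff.1 y.2).symm
  exact LThreeCo1Six.Ker.not_trivial (by rw [← hx, pow_orderOf_eq_one]) h6 hreg hxy hq (by omega) hyo
    (fix_le_of hq hxy hyo (by omega))

omit hreg in
theorem finrank_mov : finrank ℚ (mov (rep x)) = 18 := by
  have hx' : rep x ^ 3 = 1 := by rw [← map_pow, ← hx, pow_orderOf_eq_one, map_one]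
  have e1 := SigZeroCo2.Rank.finrank_fix_add_mov (cube_apply' hx')
  rw [h6, finrank_Sp] at e1
  omega

omit hreg in
/-- free elements of prime order `q` with `q = 7` or `q ≥ 11` do not commute with `x` -/
theorem six_free {y : Co0} (hy : orderOf y = 7) (hfree : ∀ v : leechLattice, y • v = v → v = 0) (hxy : Commute x y) :
    False := by
  have hx' : rep x ^ 3 = 1 := by rw [← map_pow, ← hx, pow_orderOf_eq_one, map_one]
  have hy' : rep y ^ 7 = 1 := by rw [← map_pow, ← hy, pow_orderOf_eq_one, map_one]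
  have hc : Commute (rep x) (rep y) := hxy.map rep
  obtain ⟨k, hk⟩ := sub_three_prime (mov (rep x)) (r := 7) (by norm_num) (by norm_num) hc (mov_comm (Commute.refl _))
    (mov_comm hc) hx' (by rw [inf_comm]; exact (SigZeroCo2.Rank.isCompl (cube_apply' hx')).inf_eq_bot) hy'
  have h0 : fix (rep y) = ⊥ := by
    rw [eq_bot_iff]
    intro v hv
    exact CpAutBig.TwoPrimes.free_rep hfree (mem_fix.1 hv)
  rw [finrank_mov hx h6, h0, inf_bot_eq, finrank_bot] at hk
  omega

omit hreg in
theorem six_not_seven : ¬ 7 ^ 2 ∣ Nat.card (centralizer ({x} : Set Co0)) := by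
  intro hd
  have hf : Fact (Nat.Prime 7) := ⟨by norm_num⟩
  obtain ⟨K, hK⟩ := Sylow.exists_subgroup_card_pow_prime 7 hd
  have hKm : Nat.card (K.map (centralizer ({x} : Set Co0)).subtype) = 7 ^ 2 := by
    rw [Subgroup.card_map_of_injective (Subgroup.subtype_injective _), hK]
  have hp1 : H813.CoSevenData.p0 ≠ 1 := by
    intro h
    have h1 := H813.CoSevenData.free_p0 CoOneType.CoEval.beta (by rw [h, one_smul])
    have h2 := CoOneType.CoEval.beta_coe
    rw [h1] at h2
    have h3 := congrFun h2 (SporadicA.GolayBase.pt 0)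
    rw [CoOneType.CoEval.vec_betaL] at h3
    have h4 : (8 : ℤ) * 64 ^ SporadicA.GolayBase.idx (SporadicA.GolayBase.pt 0) = 0 := h3.symm
    have h5 : (0 : ℤ) < 8 * 64 ^ SporadicA.GolayBase.idx (SporadicA.GolayBase.pt 0) := by positivity
    omega
  have hp : orderOf H813.CoSevenData.p0 = 7 := orderOf_eq_prime H813.CoSevenData.p0_pow hp1
  have hz : Nat.card ↥(zpowers H813.CoSevenData.p0) = 7 ^ 1 := by rw [Nat.card_zpowers, hp, pow_one]
  obtain ⟨g, hg⟩ := exists_inf (p := 7) (by norm_num) (IsPGroup.of_card hKm) (IsPGroup.of_card hz) (n := 2)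
    (m := 169705175777280000) (by rw [card_co0]; norm_num) (by norm_num)
  rw [hKm, hz, mul_comm] at hg
  have h1 := Nat.le_of_mul_le_mul_right hg (by positivity)
  set E := (zpowers H813.CoSevenData.p0).map (MulAut.conj g).toMonoidHom with hE
  have h2 : Nat.card ↥E = 7 := by
    rw [hE, Subgroup.card_map_of_injective (MulAut.conj g).injective, hz]
    norm_num
  have h3 : K.map (centralizer ({x} : Set Co0)).subtype ⊓ E = E := by
    refine Subgroup.eq_of_le_of_card_ge inf_le_right ?_
    rw [h2]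
    exact le_trans (by norm_num) h1
  have h4 : g * H813.CoSevenData.p0 * g⁻¹ ∈ K.map (centralizer ({x} : Set Co0)).subtype := by
    have h5 : g * H813.CoSevenData.p0 * g⁻¹ ∈ E := ⟨_, mem_zpowers _, rfl⟩
    rw [← h3] at h5
    exact h5.1
  obtain ⟨k, -, hk⟩ := h4
  change (k : Co0) = _ at hk
  refine six_free hx h6 (y := g * H813.CoSevenData.p0 * g⁻¹) ?_ ?_ ?_
  · rw [← hp]
    exact MulEquiv.orderOf_eq (MulAut.conj g) _
  · intro v hv
    have h6 : H813.CoSevenData.p0 • (g⁻¹ • v) = g⁻¹ • v := by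
      rw [mul_smul, mul_smul] at hv
      exact (eq_inv_smul_iff).2 hv
    have h7 := H813.CoSevenData.free_p0 _ h6
    rw [inv_smul_eq_iff] at h7
    rw [h7]
    exact SporadicStructure.Co0Base.co0_smul_zero g
  · rw [← hk]
    exact (mem_centralizer_singleton_iff.1 k.2).symm

/-- the centralizer of `x` on `V^x` -/
noncomputable def actU (x : Co0) : ↥(centralizer ({x} : Set Co0)) →* Module.End ℚ ↥(fix (rep x)) where
  toFun c := (rep (c : Co0)).restrict (fix_comm
    ((show Commute x (c : Co0) from (mem_centralizer_singleton_iff.1 c.2).symm).map rep))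
  map_one' := by
    refine LinearMap.ext fun v => Subtype.ext ?_
    change rep 1 (v : Sp) = v
    rw [map_one]
    rfl
  map_mul' a b := by
    refine LinearMap.ext fun v => Subtype.ext ?_
    change rep ((a : Co0) * b) (v : Sp) = rep (a : Co0) (rep (b : Co0) (v : Sp))
    rw [map_mul]
    rfl

omit hx h6 hreg in
theorem finrank_actU (c : ↥(centralizer ({x} : Set Co0))) :
    finrank ℚ (fix (actU x c)) = finrank ℚ (fix (rep x) ⊓ fix (rep (c : Co0)) : Submodule ℚ Sp) :=
  finrank_fix_restrict (f := rep (c : Co0)) (W := fix (rep x)) (fix_comm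
    ((show Commute x (c : Co0) from (mem_centralizer_singleton_iff.1 c.2).symm).map rep))

/-- elements of order five of `C(x)` fix a plane of `V^x` -/
theorem six_plane {y : ↥(centralizer ({x} : Set Co0))} (hy : orderOf y = 5) :
    finrank ℚ (fix (rep x) ⊓ fix (rep (y : Co0)) : Submodule ℚ Sp) = 2 := by
  have hyo : orderOf (y : Co0) = 5 := by rw [Subgroup.orderOf_coe, hy]
  have hxy : Commute x (y : Co0) := (mem_centralizer_singleton_iff.1 y.2).symm
  obtain ⟨k, hk⟩ := sub_prime (fix (rep x)) (r := 5) (by norm_num) (fix_comm (hxy.map rep)) (y := rep (y : Co0))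
    (by rw [← map_pow, ← hyo, pow_orderOf_eq_one, map_one])
  rw [h6] at hk
  rcases Nat.eq_zero_or_pos k with rfl | hk0
  · exfalso
    have h1 : fix (rep x) ⊓ fix (rep (y : Co0)) = fix (rep x) :=
      Submodule.eq_of_le_of_finrank_eq inf_le_left (by rw [h6]; omega)
    exact LThreeCo1Six.Ker.not_trivial (by rw [← hx, pow_orderOf_eq_one]) h6 hreg hxy (by norm_num) (by norm_num) hyo
      (inf_eq_left.1 h1)
  · omega

theorem six_order {g : ↥(centralizer ({x} : Set Co0))} (hg : orderOf g = 25) : False := by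
  have hy : orderOf (g ^ 5) = 5 := by
    rw [orderOf_pow_of_dvd (by norm_num) (by rw [hg]; norm_num), hg]
  have h2 := six_plane hx h6 hreg hy
  have hxg : Commute x (g : Co0) := (mem_centralizer_singleton_iff.1 g.2).symm
  have hgo : orderOf (g : Co0) = 25 := by rw [Subgroup.orderOf_coe, hg]
  have hg25 : rep (g : Co0) ^ 25 = 1 := by rw [← map_pow, ← hgo, pow_orderOf_eq_one, map_one]
  have hy5 : (rep (g : Co0) ^ 5) ^ 5 = 1 := by rw [← pow_mul]; exact hg25
  have e1 : rep (((g ^ 5 : ↥(centralizer ({x} : Set Co0))) : Co0)) = rep (g : Co0) ^ 5 := by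
    rw [← map_pow]
    rfl
  rw [e1] at h2
  have hc : Commute (rep x) (rep (g : Co0) ^ 5) := (hxg.map rep).pow_right 5
  have h3 := PreUniqCo.FivePair.finrank_eq hy5 hc
  rw [h6, h2] at h3
  have h4 : (25 : ℕ).totient ∣ finrank ℚ (PreUniqCo.FivePair.U (rep x) (rep (g : Co0) ^ 5)) := by
    refine CpAutCoFive.dvd_finrank_sub (by norm_num) hg25
      (PreUniqCo.FivePair.U_inv (hxg.map rep) ((Commute.refl _).pow_left 5)) ?_
    intro p hp hd v hv hfv
    have hp5 : p = 5 := by
      have h7 : p ∣ 5 ^ 2 := hd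
      exact (Nat.prime_dvd_prime_iff_eq hp (by norm_num)).1 (hp.dvd_of_dvd_pow h7)
    subst hp5
    have h8 : (fix (rep x) ⊓ fix (rep (g : Co0) ^ 5)) ⊓ PreUniqCo.FivePair.U (rep x) (rep (g : Co0) ^ 5) = ⊥ :=
      PreUniqCo.FivePair.inf_eq_bot
    have h9 : v ∈ (fix (rep x) ⊓ fix (rep (g : Co0) ^ 5)) ⊓ PreUniqCo.FivePair.U (rep x) (rep (g : Co0) ^ 5) :=
      ⟨⟨hv.1, mem_fix.2 hfv⟩, hv⟩
    rw [h8] at h9
    exact (Submodule.mem_bot ℚ).1 h9
  have h5 : finrank ℚ (PreUniqCo.FivePair.U (rep x) (rep (g : Co0) ^ 5)) = 4 := by omega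
  rw [h5] at h4
  revert h4
  decide

theorem six_elem [Fact (Nat.Prime 5)] {K : Subgroup ↥(centralizer ({x} : Set Co0))} (hK : Nat.card K = 5 ^ 2) :
    IsElementaryAbelian 5 K := by
    refine ⟨IsPGroup.isMulCommutative_of_card_eq_prime_sq hK, ?_⟩
    · intro a ha
      by_contra hne
      have h1 : orderOf (⟨a, ha⟩ : K) ∣ 5 ^ 2 := by
        rw [← hK]
        exact orderOf_dvd_natCard _
      obtain ⟨i, hi, h2⟩ := (Nat.dvd_prime_pow (by norm_num)).1 h1
      rw [Subgroup.orderOf_mk] at h2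
      interval_cases i
      · rw [pow_zero, orderOf_eq_one_iff] at h2
        exact hne (by rw [h2, one_pow])
      · rw [pow_one] at h2
        exact hne (by rw [← h2, pow_orderOf_eq_one])
      · exact six_order hx h6 hreg h2

theorem six_pair {a b : ↥(centralizer ({x} : Set Co0))} (hb : orderOf b = 5) (hab : ∀ m : ℕ, orderOf (a * b ^ m) = 5)
    (hcomm : Commute a b) : False := by
  have h1 := PreUniqCo.FivePair.sum_fix (a := actU x a) (b := actU x b)
    (by have := hab 0; rw [pow_zero, mul_one] at this; rw [← map_pow, ← this, pow_orderOf_eq_one, map_one])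
    (by rw [← map_pow, ← hb, pow_orderOf_eq_one, map_one]) (hcomm.map _)
  have e : ∀ m : ℕ, finrank ℚ (fix (actU x a * actU x b ^ m)) = 2 := by
    intro m
    rw [← map_pow, ← map_mul, finrank_actU]
    exact six_plane hx h6 hreg (hab m)
  have e2 : finrank ℚ (fix (actU x b)) = 2 := by
    rw [finrank_actU]
    exact six_plane hx h6 hreg hb
  have e0 := e 0
  have e1 := e 1
  have e3 := e 2
  have e4 := e 3
  have e5 := e 4
  omega

theorem six_not_five : ¬ 5 ^ 2 ∣ Nat.card (centralizer ({x} : Set Co0)) := by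
  intro hd
  have hf : Fact (Nat.Prime 5) := ⟨by norm_num⟩
  obtain ⟨K, hK⟩ := Sylow.exists_subgroup_card_pow_prime 5 hd
  have hel := six_elem hx h6 hreg hK
  obtain ⟨a, -, b, -, hb, hab, hcomm⟩ := PreUniqCo.FiveCo.exists_gens_five hel (by rw [hK]; norm_num)
  exact six_pair hx h6 hreg hb hab hcomm

/-- **`|C(x)|` divides `2^22 3^9 5 7`** for `x` of order three and fixed dimension 6. -/
theorem six_dvd : Nat.card (centralizer ({x} : Set Co0)) ∣ 2 ^ 22 * 688905 := by
  have h0 : Nat.card (centralizer ({x} : Set Co0)) ≠ 0 := Nat.card_pos.ne'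
  have h1 : Nat.card (centralizer ({x} : Set Co0)) ∣ 8315553613086720000 := by
    have := card_subgroup_dvd_card (centralizer ({x} : Set Co0))
    rwa [card_co0] at this
  have hq : ∀ q : ℕ, q.Prime → 11 ≤ q → ¬ q ^ (0 + 1) ∣ Nat.card (centralizer ({x} : Set Co0)) := by
    intro q hq h7
    rw [zero_add, pow_one]
    exact six_not_dvd hx h6 hreg hq h7
  have h3 := reduce Nat.prime_five 4 1 h0 (M := 2 ^ 22 * (3 ^ 9 * 7 ^ 2 * 11 * 13 * 23)) (by
    refine h1.trans ?_
    norm_num) (six_not_five hx h6 hreg)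
  have h5 := reduce (p := 7) (by norm_num) 2 1 h0 (M := 5 * (2 ^ 22 * (3 ^ 9 * 11 * 13 * 23))) (by
    refine h3.trans ?_
    norm_num) (six_not_seven hx h6)
  have h6 := reduce (p := 11) (by norm_num) 1 0 h0 (M := 7 * 5 * (2 ^ 22 * (3 ^ 9 * 13 * 23))) (by
    refine h5.trans ?_
    norm_num) (hq 11 (by norm_num) (by norm_num))
  have h7 := reduce (p := 13) (by norm_num) 1 0 h0 (M := 7 * 5 * (2 ^ 22 * (3 ^ 9 * 23))) (by
    refine h6.trans ?_
    norm_num) (hq 13 (by norm_num) (by norm_num))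
  have h8 := reduce (p := 23) (by norm_num) 1 0 h0 (M := 7 * 5 * (2 ^ 22 * 3 ^ 9)) (by
    refine h7.trans ?_
    norm_num) (hq 23 (by norm_num) (by norm_num))
  refine h8.trans ?_
  norm_num

end six

/-! ### Elements of order nine -/

/-- **No prime `q ≥ 7` divides `|C(y)|`** for `y` of order nine, `y ^ 3` free. -/
theorem nine_not_dvd {y : Co0} (hy : orderOf y = 9) (hfree : ∀ v : leechLattice, (y ^ 3) • v = v → v = 0) {q : ℕ}
    (hq : q.Prime) (h7 : 7 ≤ q) : ¬ q ∣ Nat.card (centralizer ({y} : Set Co0)) := by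
  intro hd
  have : Fact q.Prime := ⟨hq⟩
  obtain ⟨z, hz⟩ := exists_prime_orderOf_dvd_card' q hd
  have hzo : orderOf (z : Co0) = q := by rw [Subgroup.orderOf_coe, hz]
  have hyz : Commute y (z : Co0) := (mem_centralizer_singleton_iff.1 z.2).symm
  have hY : rep y ^ 9 = 1 := by rw [← map_pow, ← hy, pow_orderOf_eq_one, map_one]
  have hZ : rep (z : Co0) ^ q = 1 := by rw [← map_pow, ← hzo, pow_orderOf_eq_one, map_one]
  have hc : Commute (rep y) (rep (z : Co0)) := hyz.map rep
  have hfin := finrank_fix_add_movr hq.pos hZ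
  rw [finrank_Sp] at hfin
  have hne : fix (rep (z : Co0)) ≠ ⊤ := fix_ne_top (by
    intro h
    rw [h, orderOf_one] at hzo
    exact hq.one_lt.ne hzo)
  have hlt := Submodule.finrank_lt hne
  rw [finrank_Sp] at hlt
  have h1 : (9 * q).totient ∣ finrank ℚ (movr q (rep (z : Co0))) := by
    refine CpAutCoFive.dvd_finrank_sub (Nat.mul_pos (by norm_num) hq.pos) (f := rep y * rep (z : Co0)) ?_ ?_ ?_
    · rw [hc.mul_pow, pow_mul, hY, one_pow, one_mul, mul_comm, pow_mul, hZ, one_pow]
    · intro v hv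
      rw [movr, LinearMap.mem_ker] at hv ⊢
      have hcomm : Commute (∑ k ∈ Finset.range q, rep (z : Co0) ^ k) (rep y * rep (z : Co0)) :=
        Commute.sum_left _ _ _ fun k _ => (hc.symm.pow_left k).mul_right ((Commute.refl _).pow_left k)
      have h2 := congrArg (fun f : Module.End ℚ Sp => f v) hcomm.eq
      change (∑ k ∈ Finset.range q, rep (z : Co0) ^ k) ((rep y * rep (z : Co0)) v) =
        (rep y * rep (z : Co0)) ((∑ k ∈ Finset.range q, rep (z : Co0) ^ k) v) at h2
      rw [h2, hv, map_zero]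
    · intro p hp hpd v hv hfv
      have hp' : p = 3 ∨ p = q := by
        rcases (Nat.Prime.dvd_mul hp).1 hpd with h | h
        · left
          exact (Nat.prime_dvd_prime_iff_eq hp Nat.prime_three).1 (hp.dvd_of_dvd_pow (show p ∣ 3 ^ 2 from h))
        · right
          exact (Nat.prime_dvd_prime_iff_eq hp hq).1 h
      rcases hp' with rfl | rfl
      · have e1 : 9 * q / 3 = 3 * q := by omega
        rw [e1, hc.mul_pow, mul_comm 3 q, pow_mul (rep (z : Co0)), hZ, one_pow, mul_one, mul_comm q 3, pow_mul] at hfv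
        have h3 : rep (y ^ 3) v = v := by
          rw [map_pow]
          have h4 : (rep y ^ 3) ^ 3 = 1 := by rw [← pow_mul]; exact hY
          have hcop : Nat.Coprime q 3 := by
            refine (Nat.coprime_primes hq Nat.prime_three).2 ?_
            omega
          refine CpAutCoFive.fix_of_coprime hcop (by norm_num) hfv ?_
          rw [h4]
          rfl
        exact CpAutBig.TwoPrimes.free_rep hfree h3
      · have hppos := hp.pos
        have e1 : 9 * p / p = 9 := Nat.mul_div_cancel _ hppos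
        rw [e1, hc.mul_pow, hY, one_mul] at hfv
        have h4 : rep (z : Co0) v = v := by
          have hcop : Nat.Coprime 9 p := by
            refine Nat.Coprime.pow_left 2 (m := 3) ((Nat.coprime_primes Nat.prime_three hp).2 ?_)
            omega
          refine CpAutCoFive.fix_of_coprime hcop hp.one_lt hfv ?_
          rw [hZ]
          rfl
        rw [movr, LinearMap.mem_ker, sum_apply_fix h4] at hv
        exact (smul_eq_zero.1 hv).resolve_left (by exact_mod_cast hp.ne_zero)
  have hcop : Nat.Coprime 9 q := by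
    refine Nat.Coprime.pow_left 2 (m := 3) ((Nat.coprime_primes Nat.prime_three hq).2 ?_)
    omega
  have h9 : (9 : ℕ).totient = 6 := by decide
  rw [Nat.totient_mul hcop, Nat.totient_prime hq, h9] at h1
  have h2 := Nat.le_of_dvd (by omega) h1
  omega

end Cfsg.Agent.H55.CoOneLow
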