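import Cfsg.Agent.H516.OddFrame
import Cfsg.Agent.LieRecognition.FT61.Grp

/-!
# The situation `Sit p a b` if `|C_L(b)|` is even (helper55)

`Sit.split` : if `|C_L(b)|` is even, then there is a situation `Sit p a b'` with `b'` of another order, or an element `y`
with `y ^ r = b`, `r = |b|`, and `conj y ∈ ⟨a⟩`, so `C_L(a) ≤ C_L(y)`.
-/

set_option autoImplicit false

namespace Cfsg.Agent.H55.SitRed

open Subgroup Cfsg Cfsg.Agent.H516

universe u

set_option linter.unusedSectionVars false

variable {L : Type u} [Group L] [Finite L] {p : ℕ} {a : MulAut L} {b : L}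

/-- a power of `a` of odd prime order -/
theorem exists_sit (S : Sit p a b) {q : ℕ} (hq : q.Prime) (hq2 : q ≠ 2) (hd : q ∣ orderOf a) :
    ∃ b' : L, orderOf b' = q ∧ Sit p a b' := by
  obtain ⟨c, hc⟩ := hd
  have hc0 : c ≠ 0 := by
    rintro rfl
    rw [mul_zero] at hc
    exact (orderOf_pos a).ne' hc
  have ho : orderOf (a ^ c) = q := by
    rw [orderOf_pow_of_dvd hc0 (by rw [hc]; exact dvd_mul_left _ _), hc]
    exact Nat.mul_div_cancel _ (Nat.pos_of_ne_zero hc0)
  obtain ⟨b', hb⟩ := S.good.oi _ (by rw [ho]; exact hq.odd_of_ne_two hq2)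
  have hbo : orderOf b' = q := by rw [← ho, hb, orderOf_injective _ (conj_injective S.good.center)]
  exact ⟨b', hbo, S.good, S.prime, S.ne_two, S.ih, S.bad, S.odd, by rw [hbo]; exact hq, by rw [hbo]; exact hq2,
    by rw [← hb]; exact pow_mem (mem_zpowers a) _⟩

theorem orderOf_conj (S : Sit p a b) (y : L) : orderOf (MulAut.conj y : MulAut L) = orderOf y :=
  orderOf_injective _ (conj_injective S.good.center) _

theorem isCyclic_zpowers (a : MulAut L) : IsCyclic (zpowers a) := inferInstance

/-- **The splitting.** -/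
theorem split (S : Sit p a b) (he : Even (Nat.card ↥(centralizer ({b} : Set L)))) :
    (∃ b' : L, orderOf b' ≠ orderOf b ∧ Sit p a b') ∨
    ∃ y : L, orderOf y = orderOf b ^ 2 ∧ y ^ orderOf b = b ∧ MulAut.conj y ∈ zpowers a ∧
      fixedSubgroup a ≤ centralizer ({y} : Set L) := by
  set r := orderOf b with hr
  have hrp : r.Prime := S.bprime
  have hr2 : r ≠ 2 := S.b_ne_two
  by_cases h1 : ∃ q : ℕ, q.Prime ∧ q ≠ 2 ∧ q ≠ r ∧ q ∣ orderOf a
  · obtain ⟨q, hq, hq2, hqr, hqd⟩ := h1
    obtain ⟨b', hb', S'⟩ := exists_sit S hq hq2 hqd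
    exact Or.inl ⟨b', by rw [hb']; exact hqr, S'⟩
  push Not at h1
  right
  -- the order of `a` is `2 ^ n * r ^ k`
  obtain ⟨n, m, hm, hn⟩ := Nat.exists_eq_pow_mul_and_not_dvd (orderOf_pos a).ne' 2 (by norm_num)
  have hm0 : m ≠ 0 := by
    rintro rfl
    exact hm (dvd_zero 2)
  have hmr : m = r ^ m.primeFactorsList.length := by
    refine Nat.eq_prime_pow_of_unique_prime_dvd hm0 ?_
    intro q hq hqm
    by_contra hqr
    refine h1 q hq ?_ hqr (by rw [hn]; exact hqm.mul_left _)
    rintro rfl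
    exact hm hqm
  obtain ⟨k, hk⟩ : ∃ k, m = r ^ k := ⟨_, hmr⟩
  have hob : orderOf (MulAut.conj b : MulAut L) = r := orderOf_conj S b
  have hdvd : r ∣ orderOf a := by
    rw [← hob]
    exact orderOf_dvd_of_mem_zpowers S.pow
  have hk0 : k ≠ 0 := by
    rintro rfl
    rw [pow_zero] at hk
    rw [hn, hk, mul_one] at hdvd
    exact hr2 ((Nat.prime_dvd_prime_iff_eq hrp Nat.prime_two).1 (hrp.dvd_of_dvd_pow hdvd))
  rcases Nat.lt_or_ge k 2 with hk2 | hk2
  · -- `a ^ 2 ^ n` generates the same group as `conj b`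
    exfalso
    have hk1 : k = 1 := by omega
    rw [hk1, pow_one] at hk
    rw [hk] at hn
    have h2 : orderOf (a ^ 2 ^ n) = r := by
      rw [orderOf_pow_of_dvd (pow_ne_zero _ (by norm_num)) (by rw [hn]; exact dvd_mul_right _ _), hn,
        Nat.mul_div_cancel_left _ (pow_pos (by norm_num) _)]
    have h3 : zpowers (a ^ 2 ^ n) = zpowers (MulAut.conj b : MulAut L) :=
      LieRecognition.FT61.Grp.zpowers_eq_of_orderOf (isCyclic_zpowers a) (pow_mem (mem_zpowers a) _) S.pow
        (by rw [h2, hob])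
    obtain ⟨i, hi⟩ := mem_zpowers_iff.1 (by rw [← h3]; exact mem_zpowers _ : a ^ 2 ^ n ∈ zpowers (MulAut.conj b : MulAut L))
    -- `a ^ 2 ^ n` is trivial on `C(b)`
    have h4 : (resAut a _ S.map_centralizer_b) ^ 2 ^ n = 1 := by
      have h5 : ∀ (j : ℕ) (s : ↥(centralizer ({b} : Set L))),
          ((((resAut a _ S.map_centralizer_b) ^ j) s : ↥(centralizer ({b} : Set L))) : L) = (a ^ j) (s : L) := by
        intro j
        induction j with
        | zero => intro s; rfl
        | succ j ih =>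
          intro s
          rw [pow_succ', pow_succ', MulAut.mul_apply, MulAut.mul_apply, resAut_apply, ih]
      ext s
      rw [h5, ← hi, ← map_zpow, MulAut.conj_apply]
      have h6 : Commute (s : L) b := mem_centralizer_singleton_iff.1 s.2
      rw [← (h6.zpow_right i).eq, mul_inv_cancel_right]
      rfl
    have h7 := even_fixed he h4
    have h8 : Nat.card (fixedSubgroup (resAut a _ S.map_centralizer_b)) ∣ Nat.card (fixedSubgroup a) := by
      refine Subgroup.card_dvd_of_injective (f := ((Subgroup.subtype _).comp (Subgroup.subtype _)).codRestrict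
        (fixedSubgroup a) fun s => ?_) ?_
      · have h9 := s.2
        change a ((s : ↥(centralizer ({b} : Set L))) : L) = _
        have h10 : resAut a _ S.map_centralizer_b (s : ↥(centralizer ({b} : Set L))) = s := h9
        exact congrArg Subtype.val h10
      · intro s t hst
        exact Subtype.ext (Subtype.ext (congrArg (fun z : fixedSubgroup a => (z : L)) hst))
    exact (Nat.not_even_iff_odd.2 (S.odd.of_dvd_nat h8)) h7
  · -- an element of order `r ^ 2`
    obtain ⟨l, rfl⟩ := Nat.exists_eq_add_of_le' hk2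
    have hc0 : 2 ^ n * r ^ l ≠ 0 := mul_ne_zero (pow_ne_zero _ (by norm_num)) (pow_ne_zero _ hrp.ne_zero)
    have h2 : orderOf (a ^ (2 ^ n * r ^ l)) = r ^ 2 := by
      rw [orderOf_pow_of_dvd hc0 (by rw [hn, hk]; exact ⟨r ^ 2, by ring⟩), hn, hk]
      refine Nat.div_eq_of_eq_mul_left (Nat.pos_of_ne_zero hc0) (by ring)
    obtain ⟨y, hy⟩ := S.good.oi _ (by rw [h2]; exact (hrp.odd_of_ne_two hr2).pow)
    have hyo : orderOf y = r ^ 2 := by rw [← h2, hy, orderOf_conj S]
    have hym : MulAut.conj y ∈ zpowers a := by rw [← hy]; exact pow_mem (mem_zpowers a) _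
    have hyr : orderOf (y ^ r) = r := by
      rw [orderOf_pow_of_dvd hrp.ne_zero (by rw [hyo]; exact dvd_pow_self _ (by norm_num)), hyo, pow_two]
      exact Nat.mul_div_cancel _ hrp.pos
    have h3 : zpowers (MulAut.conj (y ^ r) : MulAut L) = zpowers (MulAut.conj b : MulAut L) := by
      refine LieRecognition.FT61.Grp.zpowers_eq_of_orderOf (isCyclic_zpowers a) ?_ S.pow
        (by rw [orderOf_conj S, hyr, hob])
      rw [map_pow]
      exact pow_mem hym _
    obtain ⟨i, hi⟩ := mem_zpowers_iff.1 (by rw [h3]; exact mem_zpowers _ :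
      (MulAut.conj b : MulAut L) ∈ zpowers (MulAut.conj (y ^ r) : MulAut L))
    have hib : (y ^ i) ^ r = b := by
      apply conj_injective S.good.center
      rw [← hi, ← map_zpow]
      congr 1
      rw [← zpow_natCast, ← zpow_natCast, ← zpow_mul, ← zpow_mul, mul_comm]
    have hmi : MulAut.conj (y ^ i) ∈ zpowers a := by
      rw [map_zpow]
      exact zpow_mem hym _
    refine ⟨y ^ i, ?_, hib, hmi, fixed_le_centralizer hmi⟩
    -- the order
    have h5 : orderOf (y ^ i) ∣ r ^ 2 := by
      rw [← hyo]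
      exact orderOf_dvd_of_mem_zpowers ⟨i, rfl⟩
    obtain ⟨j, hj, hj'⟩ := (Nat.dvd_prime_pow hrp).1 h5
    have h6 : ¬ j ≤ 1 := by
      intro hj1
      have h7 : orderOf (y ^ i) ∣ r := by
        rw [hj']
        calc r ^ j ∣ r ^ 1 := pow_dvd_pow r hj1
          _ = r := pow_one r
      have h8 := orderOf_dvd_iff_pow_eq_one.1 h7
      rw [hib] at h8
      exact S.b_ne_one h8
    have h7 : j = 2 := by omega
    rw [hj', h7]

end Cfsg.Agent.H55.SitRed
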